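import Groth.Agent.FlatTorsHom.Setup
import Groth.Agent.RGammaLib.HDIHom
import Mathlib.Algebra.Homology.DerivedCategory.HomologySequence

/-!
# Maps from objects killed by a power of `I` see only the base change
-/

set_option autoImplicit false
set_option backward.isDefEq.respectTransparency false
set_option backward.defeqAttrib.useBackward true

noncomputable section

universe u

attribute [local instance] HasDerivedCategory.standard

open CategoryTheory Limits Pretriangulated

namespace Groth.Agent.FlatTorsHom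

variable {A B : Type u} [CommRing A] [CommRing B]

/-- The cohomology of `X` is killed by a power of `K`. -/
def HKilled (K : Ideal A) (X : Dual.D A) : Prop :=
  ∀ j : ℤ, ∃ m : ℕ, ∀ a ∈ K ^ m, ∀ x : Dual.HD A X j, a • x = 0

/-- `Y` is killed by a power of `I`. -/
def Killed (I : Ideal A) (Y : Dual.D A) : Prop :=
  ∃ m : ℕ, ∀ a ∈ I ^ m, a • 𝟙 Y = 0

theorem homology_map_smul {X : Dual.D A} (c : A) (j : ℤ) (x : Dual.HD A X j) :
    (DerivedCategory.homologyFunctor (ModuleCat.{u} A) j).map (c • 𝟙 X) x = c • x := by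
  let C : DRing.Cx A := DerivedCategory.Q.objPreimage X
  let e : DerivedCategory.Q.obj C ≅ X := DerivedCategory.Q.objObjPreimageIso X
  let H := DerivedCategory.homologyFunctor (ModuleCat.{u} A) j
  have h1 : H.map ((DerivedCategory.Q (C := ModuleCat.{u} A)).map (c • 𝟙 C)) = c • 𝟙 (H.obj (DerivedCategory.Q.obj C)) := by
    refine (Iso.cancel_iso_hom_right _ _ ((DerivedCategory.homologyFunctorFactors (ModuleCat.{u} A) j).app C)).1 ?_
    refine ((DerivedCategory.homologyFunctorFactors (ModuleCat.{u} A) j).hom.naturality (c • 𝟙 C)).trans ?_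
    rw [Linear.smul_comp, Category.id_comp]
    show _ ≫ ShortComplex.homologyMap (c • 𝟙 (C.sc j)) = _
    rw [ShortComplex.homologyMap_smul, ShortComplex.homologyMap_id, Linear.comp_smul, Category.comp_id]
    rfl
  have h2 : c • 𝟙 X = e.inv ≫ DerivedCategory.Q.map (c • 𝟙 C) ≫ e.hom := by
    rw [Functor.map_smul, CategoryTheory.Functor.map_id, Linear.smul_comp, Category.id_comp, Linear.comp_smul,
      Iso.inv_hom_id]
  rw [h2, Functor.map_comp, Functor.map_comp, h1, Linear.smul_comp, Category.id_comp, Linear.comp_smul,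
    ← Functor.map_comp, Iso.inv_hom_id, CategoryTheory.Functor.map_id]
  rfl

/-- The cohomology of the cone of `c`. -/
theorem hKilled_cone {K : Ideal A} (a : A) (n : ℕ) {X Z : Dual.D A} (hX : HKilled K X) (q : X ⟶ Z)
    (r : Z ⟶ X⟦(1 : ℤ)⟧) (hT : Triangle.mk ((a ^ n) • 𝟙 X) q r ∈ distTriang (Dual.D A)) :
    HKilled (K ⊔ Ideal.span {a}) Z := by
  intro j
  obtain ⟨m, hm⟩ := hX j
  obtain ⟨m', hm'⟩ := hX (j + 1)
  let H := DerivedCategory.homologyFunctor (ModuleCat.{u} A)
  let δ : Dual.HD A Z j →ₗ[A] Dual.HD A X (j + 1) := (DerivedCategory.HomologySequence.δ (Triangle.mk ((a ^ n) • 𝟙 X) q r) j (j + 1) rfl).hom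
  have h3 : Function.Exact ((H j).map q).hom δ :=
    (ShortComplex.ShortExact.moduleCat_exact_iff_function_exact _).1
      (DerivedCategory.HomologySequence.exact₃ _ hT j (j + 1) rfl)
  have hδ : ∀ z, a ^ n • δ z = 0 := fun z => by
    rw [← homology_map_smul]
    exact ConcreteCategory.congr_hom (DerivedCategory.HomologySequence.δ_comp _ hT j (j + 1) rfl) z
  have hq : ∀ x : Dual.HD A X j, ((H j).map q).hom (a ^ n • x) = 0 := fun x => by
    rw [← homology_map_smul]
    have h0 : (H j).map ((a ^ n) • 𝟙 X) ≫ (H j).map q = 0 := by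
      rw [← Functor.map_comp, show ((a ^ n) • 𝟙 X) ≫ q = 0 from comp_distTriang_mor_zero₁₂ _ hT, Functor.map_zero]
    exact ConcreteCategory.congr_hom h0 x
  refine ⟨((m + n + m') + n) * 2, fun c hc z => ?_⟩
  have hle : (K ⊔ Ideal.span {a}) ^ ((m + n + m') + n) ≤ K ^ (m + m') ⊔ Ideal.span {a} ^ n := by
    refine le_trans (Ideal.pow_le_pow_right ?_) Ideal.sup_pow_add_le_pow_sup_pow
    omega
  rw [pow_mul, sq] at hc
  refine Submodule.mul_induction_on hc (fun c₁ h₁ c₂ h₂ => ?_) (fun x y hx hy => by rw [add_smul, hx, hy, add_zero])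
  have key : ∀ c ∈ K ^ (m + m') ⊔ Ideal.span {a} ^ n, ∀ x : Dual.HD A X j, ((H j).map q).hom (c • x) = 0 := by
    intro c hc x
    obtain ⟨b, hb, d, hd, rfl⟩ := Submodule.mem_sup.1 hc
    rw [Ideal.span_singleton_pow, Ideal.mem_span_singleton'] at hd
    obtain ⟨d, rfl⟩ := hd
    rw [add_smul, hm b (Ideal.pow_le_pow_right (by omega) hb), zero_add, mul_comm, mul_smul, hq]
  have key' : ∀ c ∈ K ^ (m + m') ⊔ Ideal.span {a} ^ n, ∀ z, c • δ z = 0 := by
    intro c hc z
    obtain ⟨b, hb, d, hd, rfl⟩ := Submodule.mem_sup.1 hc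
    rw [Ideal.span_singleton_pow, Ideal.mem_span_singleton'] at hd
    obtain ⟨d, rfl⟩ := hd
    rw [add_smul, hm' b (Ideal.pow_le_pow_right (by omega) hb), zero_add, mul_smul, hδ, smul_zero]
  obtain ⟨x, hx⟩ := (h3 (c₂ • z)).1 (by rw [map_smul]; exact key' c₂ (hle h₂) z)
  rw [mul_smul, ← hx, ← map_smul]
  exact key c₁ (hle h₁) x

theorem hKilled_shift {K : Ideal A} {X : Dual.D A} (hX : HKilled K X) (k : ℤ) : HKilled K (X⟦k⟧) := fun j => by
  obtain ⟨m, hm⟩ := hX (k + j)
  let e := ((((DerivedCategory.homologyFunctor (ModuleCat.{u} A) 0).shiftIso k j (k + j) rfl).app X)).toLinearEquiv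
  refine ⟨m, fun a ha x => e.injective ?_⟩
  rw [map_smul, map_zero]
  exact hm a ha (e x)

variable (φ : FlatMap A B)

/-- The statement to be proved. -/
def Sees (I : Ideal A) (X : Dual.D A) : Prop :=
  ∀ Y : Dual.D A, Killed I Y → Function.Bijective (fun f : Y ⟶ X => f ≫ (adjD φ).unit.app X)

theorem sees_aux (I : Ideal A)
    (hq : Function.Bijective (Ideal.quotientMap (I.map φ.toHom) φ.toHom Ideal.le_comap_map)) :
    ∀ (l : List A), (∀ a ∈ l, a ∈ I) → ∀ K : Ideal A, I ≤ Ideal.span {a | a ∈ l} ⊔ K → ∀ X, HKilled K X → Sees φ I X := by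
  intro l
  induction l with
  | nil =>
    intro _ K hK X hX Y _
    haveI := isIso_unit_of_torsion φ I hq X fun j x => by
      obtain ⟨m, hm⟩ := hX j
      refine ⟨m, fun a ha => hm a (Ideal.pow_right_mono ?_ m ha) x⟩
      simpa using hK
    exact ⟨fun f g h => (cancel_mono _).1 h, fun g => ⟨g ≫ inv ((adjD φ).unit.app X), by simp⟩⟩
  | cons a l ih =>
    intro hl K hK X hX Y hY
    obtain ⟨n, hn⟩ := hY
    have hK' : I ≤ Ideal.span {b | b ∈ l} ⊔ (K ⊔ Ideal.span {a}) := by
      refine hK.trans (sup_le (Ideal.span_le.2 fun b hb => ?_) (le_sup_of_le_right le_sup_left))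
      rcases List.mem_cons.1 hb with rfl | hb
      · exact Ideal.mem_sup_right (Ideal.mem_sup_right (Ideal.mem_span_singleton_self _))
      · exact Ideal.mem_sup_left (Ideal.subset_span hb)
    let Gf := Le φ ⋙ Re φ
    let η := (adjD φ).unit
    have han : a ^ n • 𝟙 Y = 0 := hn _ (Ideal.pow_mem_pow (hl a List.mem_cons_self) n)
    have key : ∀ (X : Dual.D A), HKilled K X →
        ∃ (Z : Dual.D A) (q : X ⟶ Z) (r : Z ⟶ X⟦(1 : ℤ)⟧),
          Triangle.mk ((a ^ n) • 𝟙 X) q r ∈ distTriang (Dual.D A) ∧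
          Function.Bijective (fun f : Y ⟶ Z⟦(-1 : ℤ)⟧ => f ≫ η.app (Z⟦(-1 : ℤ)⟧)) := by
      intro X hX
      obtain ⟨Z, q, r, hT⟩ := distinguished_cocone_triangle ((a ^ n) • 𝟙 X)
      exact ⟨Z, q, r, hT, ih (fun b hb => hl b (List.mem_cons_of_mem _ hb)) _ hK' _
        (hKilled_shift (hKilled_cone a n hX q r hT) (-1)) Y ⟨n, hn⟩⟩
    have surj : ∀ (X : Dual.D A), HKilled K X → Function.Surjective (fun f : Y ⟶ X => f ≫ η.app X) := by
      intro X hX y
      obtain ⟨Z, q, r, hT, hb⟩ := key X hX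
      let T := (Triangle.mk ((a ^ n) • 𝟙 X) q r).invRotate
      have hTG := Gf.map_distinguished _ (inv_rot_of_distTriang _ hT)
      have hy : y ≫ Gf.map T.mor₂ = 0 := by
        show y ≫ Gf.map ((a ^ n) • 𝟙 X) = 0
        rw [Functor.map_smul, CategoryTheory.Functor.map_id, Linear.comp_smul, Category.comp_id,
          ← Category.id_comp y, ← Linear.smul_comp, han, zero_comp]
      obtain ⟨w, hw⟩ := Triangle.coyoneda_exact₂ _ hTG y hy
      obtain ⟨w', hw'⟩ := hb.2 w
      refine ⟨w' ≫ T.mor₁, ?_⟩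
      dsimp only
      rw [Category.assoc]
      refine (congrArg (w' ≫ ·) (η.naturality T.mor₁)).trans ?_
      rw [← Category.assoc]
      exact (congrArg (· ≫ Gf.map T.mor₁) hw').trans hw.symm
    refine ⟨?_, surj X hX⟩
    intro f g hfg
    rw [← sub_eq_zero]
    have hx : (f - g) ≫ η.app X = 0 := by rw [Preadditive.sub_comp]; exact sub_eq_zero.2 hfg
    generalize f - g = x at hx ⊢
    obtain ⟨Z, q, r, hT, hb⟩ := key X hX
    let T := (Triangle.mk ((a ^ n) • 𝟙 X) q r).invRotate
    have hTd : T ∈ distTriang (Dual.D A) := inv_rot_of_distTriang _ hT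
    obtain ⟨w, hw⟩ := Triangle.coyoneda_exact₂ T hTd x (by
      show x ≫ ((a ^ n) • 𝟙 X) = 0
      rw [Linear.comp_smul, Category.comp_id, ← Category.id_comp x, ← Linear.smul_comp, han, zero_comp])
    let T' := T.invRotate
    have hT'G := Gf.map_distinguished _ (inv_rot_of_distTriang _ hTd)
    have h0 : (w ≫ η.app _) ≫ Gf.map T'.mor₂ = 0 := by
      rw [Category.assoc]
      refine (congrArg (w ≫ ·) (η.naturality T'.mor₂).symm).trans ?_
      rw [← Category.assoc]
      exact (congrArg (· ≫ η.app X) hw.symm).trans hx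
    obtain ⟨v, hv⟩ := Triangle.coyoneda_exact₂ _ hT'G (w ≫ η.app _) h0
    obtain ⟨v', hv'⟩ := surj _ (hKilled_shift hX (-1)) v
    have h1 : w = v' ≫ T'.mor₁ := hb.1 (by
      dsimp only
      refine hv.trans ((congrArg (· ≫ Gf.map T'.mor₁) hv'.symm).trans ?_)
      rw [Category.assoc, Category.assoc]
      exact congrArg (v' ≫ ·) (η.naturality T'.mor₁).symm)
    rw [hw, h1, Category.assoc]
    exact (congrArg (v' ≫ ·) (comp_distTriang_mor_zero₁₂ _ (inv_rot_of_distTriang _ hTd))).trans comp_zero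

/-- Objects killed by a power of `I` see only the base change. -/
theorem sees (I : Ideal A) (hI : I.FG)
    (hq : Function.Bijective (Ideal.quotientMap (I.map φ.toHom) φ.toHom Ideal.le_comap_map)) (X : Dual.D A) :
    Sees φ I X := by
  obtain ⟨s, hs⟩ := hI
  refine sees_aux φ I hq s.toList (fun a ha => hs ▸ Ideal.subset_span (by simpa using ha)) ⊥ ?_ X fun j => ⟨1, fun a ha x => ?_⟩
  · rw [← hs, sup_bot_eq]
    exact Ideal.span_mono fun a ha => by simpa using ha
  · rw [pow_one, Ideal.mem_bot] at ha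
    rw [ha, zero_smul]

end Groth.Agent.FlatTorsHom
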