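import Groth.Agent.FlatTorsHom.Devissage
import Mathlib.Algebra.Homology.DerivedCategory.SingleTriangle
import Mathlib.Algebra.DirectSum.Module

/-!
# Maps out of torsion modules are insensitive to flat base change
-/

set_option autoImplicit false
set_option backward.isDefEq.respectTransparency false
set_option backward.defeqAttrib.useBackward true

noncomputable section

universe u

attribute [local instance] HasDerivedCategory.standard

open CategoryTheory Limits Pretriangulated DirectSum

namespace Groth.Agent.FlatTorsHom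

variable {A B : Type u} [CommRing A] [CommRing B]

/-- The single functor in degree `0`. -/
abbrev sgl (A : Type u) [CommRing A] : ModuleCat.{u} A ⥤ Dual.D A :=
  DerivedCategory.singleFunctor (ModuleCat.{u} A) 0

variable (M : ℕ → Type u) [∀ n, AddCommGroup (M n)] [∀ n, Module A (M n)]

/-- Component maps. -/
abbrev comp (n : ℕ) : (sgl A).obj (ModuleCat.of A (M n)) ⟶ (sgl A).obj (ModuleCat.of A (⨁ n, M n)) :=
  (sgl A).map (ModuleCat.ofHom (DirectSum.lof A ℕ M n))

theorem bijective_components (X : Dual.D A) :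
    Function.Bijective (fun f : (sgl A).obj (ModuleCat.of A (⨁ n, M n)) ⟶ X => fun n => comp M n ≫ f) := by
  classical
  obtain ⟨L, hL, -, ⟨e⟩⟩ := RGammaLib.exists_model X
  haveI := hL
  suffices h : Function.Bijective
      (fun f : (sgl A).obj (ModuleCat.of A (⨁ n, M n)) ⟶ DerivedCategory.Q.obj L => fun n => comp M n ≫ f) by
    refine ⟨fun f g hfg => ?_, fun v => ?_⟩
    · rw [← cancel_mono e.inv]
      exact h.1 (funext fun n => by simpa using congrArg (· ≫ e.inv) (congrFun hfg n))
    · obtain ⟨f, hf⟩ := h.2 fun n => v n ≫ e.inv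
      exact ⟨f ≫ e.hom, funext fun n => by
        have := congrFun hf n
        dsimp only at this ⊢
        rw [← Category.assoc, this, Category.assoc, Iso.inv_hom_id, Category.comp_id]⟩
  refine ⟨fun f g hfg => ?_, fun v => ?_⟩
  · rw [← sub_eq_zero]
    have hx : ∀ n, comp M n ≫ (f - g) = 0 := fun n => by
      rw [Preadditive.comp_sub]; exact sub_eq_zero.2 (congrFun hfg n)
    generalize f - g = x at hx ⊢
    obtain ⟨a, ha, rfl⟩ := RGammaLib.toD_surjective x
    choose h hh using fun n => (RGammaLib.toD_eq_zero_iff _ _).1 ((RGammaLib.toD_comp _ a ha).symm.trans (hx n))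
    refine (RGammaLib.toD_eq_zero_iff a ha).2 ⟨ModuleCat.ofHom (DirectSum.toModule A ℕ _ fun n => (h n).hom), ?_⟩
    refine ModuleCat.hom_ext (DirectSum.linearMap_ext A fun n => LinearMap.ext fun z => ?_)
    show (L.d (-1) 0) (DirectSum.toModule A ℕ _ (fun n => (h n).hom) (DirectSum.lof A ℕ M n z)) = a (DirectSum.lof A ℕ M n z)
    rw [DirectSum.toModule_lof]
    exact ConcreteCategory.congr_hom (hh n) z
  · choose a ha hv using fun n => RGammaLib.toD_surjective (v n)
    have hd : ModuleCat.ofHom (DirectSum.toModule A ℕ _ fun n => (a n).hom) ≫ L.d 0 1 =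
        (0 : ModuleCat.of A (⨁ n, M n) ⟶ L.X 1) := by
      refine ModuleCat.hom_ext (DirectSum.linearMap_ext A fun n => LinearMap.ext fun z => ?_)
      show (L.d 0 1) (DirectSum.toModule A ℕ _ (fun n => (a n).hom) (DirectSum.lof A ℕ M n z)) = 0
      rw [DirectSum.toModule_lof]
      exact ConcreteCategory.congr_hom (ha n) z
    refine ⟨RGammaLib.toD _ hd, funext fun n => ?_⟩
    refine (RGammaLib.toD_comp _ _ hd).trans (Eq.trans ?_ (hv n))
    congr 1
    exact ModuleCat.hom_ext (LinearMap.ext fun z => by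
      show DirectSum.toModule A ℕ _ (fun n => (a n).hom) (DirectSum.lof A ℕ M n z) = (a n).hom z
      rw [DirectSum.toModule_lof])

theorem bijective_components_shift (X : Dual.D A) (j : ℤ) :
    Function.Bijective (fun f : ((sgl A).obj (ModuleCat.of A (⨁ n, M n)))⟦j⟧ ⟶ X => fun n => (comp M n)⟦j⟧' ≫ f) := by
  let e : (X⟦-j⟧)⟦j⟧ ≅ X := (shiftEquiv (Dual.D A) j).counitIso.app X
  let F := shiftFunctor (Dual.D A) j
  have h := bijective_components M (X⟦-j⟧)
  refine ⟨fun f g hfg => ?_, fun v => ?_⟩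
  · obtain ⟨f', hf'⟩ := F.map_surjective (f ≫ e.inv)
    obtain ⟨g', hg'⟩ := F.map_surjective (g ≫ e.inv)
    rw [← cancel_mono e.inv, ← hf', ← hg']
    refine congrArg F.map (h.1 (funext fun n => F.map_injective ?_))
    dsimp only
    rw [Functor.map_comp, Functor.map_comp, hf', hg', ← Category.assoc, ← Category.assoc]
    exact congrArg (· ≫ e.inv) (congrFun hfg n)
  · choose v' hv' using fun n => F.map_surjective (v n ≫ e.inv)
    obtain ⟨f', hf'⟩ := h.2 v'
    refine ⟨F.map f' ≫ e.hom, funext fun n => ?_⟩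
    show F.map (comp M n) ≫ F.map f' ≫ e.hom = v n
    rw [← Category.assoc, ← Functor.map_comp, show comp M n ≫ f' = v' n from congrFun hf' n, hv',
      Category.assoc, Iso.inv_hom_id, Category.comp_id]

variable (φ : FlatMap A B) (I : Ideal A) (T : ModuleCat.{u} A)

/-- The part of `T` killed by `I^n`. -/
abbrev part (n : ℕ) : Submodule A T := Submodule.torsionBySet A T ((I ^ n : Ideal A) : Set A)

theorem part_le {n m : ℕ} (h : n ≤ m) : part I T n ≤ part I T m := fun x hx =>
  (Submodule.mem_torsionBySet_iff _ _).2 fun a => (Submodule.mem_torsionBySet_iff _ _).1 hx ⟨a.1, Ideal.pow_le_pow_right h a.2⟩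

/-- The telescope map. -/
def tel : (⨁ n, part I T n) →ₗ[A] ⨁ n, part I T n :=
  DirectSum.toModule A ℕ _ fun n => DirectSum.lof A ℕ (fun n => part I T n) n -
    DirectSum.lof A ℕ (fun n => part I T n) (n + 1) ∘ₗ Submodule.inclusion (part_le I T (Nat.le_succ n))

/-- The sum map. -/
def sumMap : (⨁ n, part I T n) →ₗ[A] T := DirectSum.toModule A ℕ _ fun n => (part I T n).subtype

theorem tel_lof (n : ℕ) (x : part I T n) : tel I T (DirectSum.lof A ℕ (fun n => part I T n) n x) =
    DirectSum.lof A ℕ (fun n => part I T n) n x -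
      DirectSum.lof A ℕ (fun n => part I T n) (n + 1) (Submodule.inclusion (part_le I T (Nat.le_succ n)) x) := by
  unfold tel
  rw [DirectSum.toModule_lof]
  rfl

theorem tel_apply_zero (x : ⨁ n, part I T n) : ((tel I T x) 0 : T) = x 0 := by
  classical
  induction x using DirectSum.induction_on with
  | zero => simp
  | add a b ha hb => simp [map_add, ha, hb]
  | of n y =>
    rw [← DirectSum.lof_eq_of A, tel_lof]
    simp [DirectSum.lof_eq_of, DirectSum.of_apply]

theorem tel_apply_succ (x : ⨁ n, part I T n) (m : ℕ) : ((tel I T x) (m + 1) : T) = x (m + 1) - x m := by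
  classical
  induction x using DirectSum.induction_on with
  | zero => simp
  | add a b ha hb => simp [map_add, ha, hb]; abel
  | of n y =>
    rw [← DirectSum.lof_eq_of A, tel_lof]
    rcases eq_or_ne n (m + 1) with rfl | h1
    · simp [DirectSum.lof_eq_of, DirectSum.of_apply]
    · rcases eq_or_ne n m with rfl | h2
      · simp [DirectSum.lof_eq_of, DirectSum.of_apply]
      · simp [DirectSum.lof_eq_of, DirectSum.of_apply, h1, h2]

theorem shortExact_tel (hT : ∀ m : T, ∃ n : ℕ, ∀ a ∈ I ^ n, a • m = 0) :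
    ∃ h, (ShortComplex.mk (ModuleCat.ofHom (tel I T)) (ModuleCat.ofHom (sumMap I T)) h :
      ShortComplex (ModuleCat.{u} A)).ShortExact := by
  classical
  let lof := DirectSum.lof A ℕ (fun n => part I T n)
  have h0 : (sumMap I T) ∘ₗ (tel I T) = 0 := DirectSum.linearMap_ext A fun n => LinearMap.ext fun y => by
    show sumMap I T (tel I T (lof n y)) = 0
    rw [tel_lof, map_sub]
    unfold sumMap
    rw [DirectSum.toModule_lof, DirectSum.toModule_lof]
    exact sub_self _
  have hinj : Function.Injective (tel I T) := by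
    rw [injective_iff_map_eq_zero]
    intro x hx
    refine DFinsupp.ext fun n => Subtype.ext ?_
    induction n with
    | zero => rw [← tel_apply_zero I T x, hx]
    | succ n ih =>
      have h1 : (x (n + 1) : T) - x n = 0 := by rw [← tel_apply_succ I T x n, hx]; rfl
      rw [ih] at h1
      simpa using h1
  have hshift : ∀ (k n : ℕ) (y : part I T n),
      lof n y - lof (n + k) (Submodule.inclusion (part_le I T (Nat.le_add_right n k)) y) ∈ LinearMap.range (tel I T) := by
    intro k
    induction k with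
    | zero =>
      intro n y
      have : Submodule.inclusion (part_le I T (Nat.le_add_right n 0)) y = y := Subtype.ext rfl
      rw [this]
      simp
    | succ k ih =>
      intro n y
      let y' := Submodule.inclusion (part_le I T (Nat.le_add_right n k)) y
      have h1 : lof (n + k) y' - lof (n + k + 1) (Submodule.inclusion (part_le I T (Nat.le_succ (n + k))) y') ∈
          LinearMap.range (tel I T) := ⟨lof (n + k) y', tel_lof I T _ _⟩
      have h2 := Submodule.add_mem _ (ih n y) h1
      rw [sub_add_sub_cancel] at h2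
      exact h2
  have hnf : ∀ x : ⨁ n, part I T n, ∃ N : ℕ, ∀ M, N ≤ M → ∃ s : part I T M, (s : T) = sumMap I T x ∧
      x - lof M s ∈ LinearMap.range (tel I T) := by
    intro x
    induction x using DirectSum.induction_on with
    | zero => exact ⟨0, fun M _ => ⟨0, by simp, by simp⟩⟩
    | of n y =>
      refine ⟨n, fun M hM => ?_⟩
      obtain ⟨k, rfl⟩ := Nat.exists_eq_add_of_le hM
      refine ⟨Submodule.inclusion (part_le I T (Nat.le_add_right n k)) y, ?_, hshift k n y⟩
      rw [← DirectSum.lof_eq_of A]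
      unfold sumMap
      rw [DirectSum.toModule_lof]
      rfl
    | add a b ha hb =>
      obtain ⟨N₁, h₁⟩ := ha
      obtain ⟨N₂, h₂⟩ := hb
      refine ⟨max N₁ N₂, fun M hM => ?_⟩
      obtain ⟨s₁, e₁, r₁⟩ := h₁ M (le_of_max_le_left hM)
      obtain ⟨s₂, e₂, r₂⟩ := h₂ M (le_of_max_le_right hM)
      refine ⟨s₁ + s₂, by simp [e₁, e₂], ?_⟩
      rw [map_add, add_sub_add_comm]
      exact Submodule.add_mem _ r₁ r₂
  refine ⟨ModuleCat.hom_ext h0, ?_⟩
  exact
    { exact := (ShortComplex.ShortExact.moduleCat_exact_iff_function_exact _).2 fun x => ⟨fun hx => by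
        obtain ⟨N, hN⟩ := hnf x
        obtain ⟨s, hs, hr⟩ := hN N le_rfl
        have : s = 0 := Subtype.ext (hs.trans hx)
        rw [this, map_zero, sub_zero] at hr
        exact hr, fun ⟨y, hy⟩ => by rw [← hy]; exact LinearMap.congr_fun h0 y⟩
      mono_f := (ModuleCat.mono_iff_injective _).2 hinj
      epi_g := (ModuleCat.epi_iff_surjective _).2 fun m => by
        obtain ⟨n, hn⟩ := hT m
        refine ⟨lof n ⟨m, (Submodule.mem_torsionBySet_iff _ _).2 fun a => hn a.1 a.2⟩, ?_⟩
        show sumMap I T _ = m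
        unfold sumMap
        rw [DirectSum.toModule_lof]
        rfl }

theorem bijective_unit_torsion (hI : I.FG)
    (hq : Function.Bijective (Ideal.quotientMap (I.map φ.toHom) φ.toHom Ideal.le_comap_map))
    (hT : ∀ m : T, ∃ n : ℕ, ∀ a ∈ I ^ n, a • m = 0) (X : Dual.D A) :
    Function.Bijective (fun f : (sgl A).obj T ⟶ X => f ≫ (adjD φ).unit.app X) := by
  let η := (adjD φ).unit.app X
  let S := (sgl A).obj (ModuleCat.of A (⨁ n, part I T n))
  have hkill : ∀ (n : ℕ) (j : ℤ), Killed I (((sgl A).obj (ModuleCat.of A (part I T n)))⟦j⟧) := fun n j => by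
    refine ⟨n, fun a ha => ?_⟩
    have h : (a • 𝟙 (ModuleCat.of A (part I T n))) = 0 := ModuleCat.hom_ext (LinearMap.ext fun y =>
      Subtype.ext ((Submodule.mem_torsionBySet_iff _ _).1 y.2 ⟨a, ha⟩))
    rw [← CategoryTheory.Functor.map_id, ← CategoryTheory.Functor.map_id, ← Functor.map_smul, ← Functor.map_smul, h,
      Functor.map_zero, Functor.map_zero]
  have hS : ∀ j : ℤ, Function.Bijective (fun f : S⟦j⟧ ⟶ X => f ≫ η) := fun j => by
    refine ⟨fun f g hfg => ?_, fun y => ?_⟩
    · refine (bijective_components_shift (fun n => part I T n) X j).1 (funext fun n => ?_)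
      refine (sees φ I hI hq X _ (hkill n j)).1 ?_
      dsimp only
      rw [Category.assoc, Category.assoc]
      exact congrArg (_ ≫ ·) hfg
    · choose v hv using fun n => (sees φ I hI hq X _ (hkill n j)).2 ((comp (fun n => part I T n) n)⟦j⟧' ≫ y)
      obtain ⟨f, hf⟩ := (bijective_components_shift (fun n => part I T n) X j).2 v
      refine ⟨f, (bijective_components_shift (fun n => part I T n) _ j).1 (funext fun n => ?_)⟩
      dsimp only
      rw [← Category.assoc, show (comp (fun n => part I T n) n)⟦j⟧' ≫ f = v n from congrFun hf n]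
      exact hv n
  have hS0 : Function.Bijective (fun f : S ⟶ X => f ≫ η) := by
    let e := (shiftFunctorZero (Dual.D A) ℤ).app S
    refine ⟨fun f g h => (cancel_epi e.hom).1 ((hS 0).1 ?_), fun y => ?_⟩
    · dsimp only
      rw [Category.assoc, Category.assoc]
      exact congrArg (_ ≫ ·) h
    · obtain ⟨f, hf⟩ := (hS 0).2 (e.hom ≫ y)
      refine ⟨e.inv ≫ f, ?_⟩
      dsimp only at hf ⊢
      rw [Category.assoc, hf, Iso.inv_hom_id_assoc]
  obtain ⟨h0, hse⟩ := shortExact_tel I T hT
  let Tr := hse.singleTriangle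
  have hTr : Tr ∈ distTriang (Dual.D A) := hse.singleTriangle_distinguished
  have hTr' := rot_of_distTriang _ hTr
  have hTr'' := rot_of_distTriang _ hTr'
  refine ⟨fun f g hfg => ?_, fun y => ?_⟩
  · rw [← sub_eq_zero]
    have hx : (f - g) ≫ η = 0 := by rw [Preadditive.sub_comp]; exact sub_eq_zero.2 hfg
    generalize f - g = x at hx ⊢
    obtain ⟨z, hz⟩ := Triangle.yoneda_exact₃ Tr hTr x (hS0.1 (by
      show (Tr.mor₂ ≫ x) ≫ η = (0 : S ⟶ X) ≫ η
      rw [Category.assoc, hx, comp_zero, zero_comp]))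
    obtain ⟨w, hw⟩ := Triangle.yoneda_exact₂ Tr.rotate.rotate (hTr'') (z ≫ η) (by
      show Tr.mor₃ ≫ z ≫ η = 0
      rw [← Category.assoc, ← hz, hx])
    obtain ⟨w', hw'⟩ := (hS 1).2 w
    have hz' : z = Tr.rotate.rotate.mor₂ ≫ w' := (hS 1).1 (by
      dsimp only
      rw [Category.assoc]
      exact hw.trans (congrArg (_ ≫ ·) hw'.symm))
    rw [hz, hz', ← Category.assoc]
    exact (congrArg (· ≫ w') (comp_distTriang_mor_zero₁₂ _ hTr'')).trans zero_comp
  · obtain ⟨x', hx'⟩ := hS0.2 (Tr.mor₂ ≫ y)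
    obtain ⟨x, hx⟩ : ∃ x : (sgl A).obj T ⟶ X, x' = Tr.mor₂ ≫ x := Triangle.yoneda_exact₂ Tr hTr x' (hS0.1 (by
      show (Tr.mor₁ ≫ x') ≫ η = (0 : S ⟶ X) ≫ η
      rw [Category.assoc]
      refine (congrArg (Tr.mor₁ ≫ ·) hx').trans ?_
      rw [← Category.assoc, comp_distTriang_mor_zero₁₂ _ hTr, zero_comp, zero_comp]))
    obtain ⟨z, hz⟩ := Triangle.yoneda_exact₃ Tr hTr (y - x ≫ η) (by
      rw [Preadditive.comp_sub, ← Category.assoc, ← hx]
      exact sub_eq_zero.2 hx'.symm)
    obtain ⟨z', hz'⟩ := (hS 1).2 z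
    let w : (sgl A).obj T ⟶ X := Tr.mor₃ ≫ z'
    refine ⟨x + w, ?_⟩
    dsimp only at hz' ⊢
    rw [Preadditive.add_comp, Category.assoc, hz', ← hz, add_sub_cancel]

theorem nonempty_hom_equiv (hI : I.FG)
    (hq : Function.Bijective (Ideal.quotientMap (I.map φ.toHom) φ.toHom Ideal.le_comap_map))
    (hT : ∀ m : T, ∃ n : ℕ, ∀ a ∈ I ^ n, a • m = 0) (N : ModuleCat.{u} A) (i : ℤ) :
    Nonempty (((sgl A).obj T ⟶ ((sgl A).obj N)⟦i⟧) ≃+
      ((sgl B).obj ((E φ).obj T) ⟶ ((sgl B).obj ((E φ).obj N))⟦i⟧)) := by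
  let X := ((sgl A).obj N)⟦i⟧
  have hb := bijective_unit_torsion φ I T hI hq hT X
  haveI : (Le φ).Additive := inferInstance
  have hmap : Function.Bijective ((Le φ).map : ((sgl A).obj T ⟶ X) → _) := by
    have h : (fun f : (sgl A).obj T ⟶ X => f ≫ (adjD φ).unit.app X) =
        (((adjD φ).homEquiv ((sgl A).obj T) ((Le φ).obj X)) ∘ (Le φ).map) := by
      funext f
      dsimp only [Function.comp_apply]
      rw [Adjunction.homEquiv_unit]
      exact (adjD φ).unit.naturality f
    rw [h] at hb
    exact (Equiv.comp_bijective _ _).1 hb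
  let e₁ : (Le φ).obj ((sgl A).obj T) ≅ (sgl B).obj ((E φ).obj T) :=
    ((E φ).mapDerivedCategorySingleFunctor 0).app T
  let e₂ : (Le φ).obj X ≅ ((sgl B).obj ((E φ).obj N))⟦i⟧ :=
    ((Le φ).commShiftIso i).app _ ≪≫ (shiftFunctor (Dual.D B) i).mapIso (((E φ).mapDerivedCategorySingleFunctor 0).app N)
  exact ⟨{ toEquiv := (Equiv.ofBijective _ hmap).trans (Iso.homCongr e₁ e₂)
           map_add' := fun f g => by
             show e₁.inv ≫ (Le φ).map (f + g) ≫ e₂.hom = e₁.inv ≫ (Le φ).map f ≫ e₂.hom + e₁.inv ≫ (Le φ).map g ≫ e₂.hom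
             rw [Functor.map_add, Preadditive.add_comp, Preadditive.comp_add] }⟩

end Groth.Agent.FlatTorsHom
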