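import Groth.Agent.RGammaLib.FlatBC
import Groth.Agent.FlatGlue.Torsion
import Groth.Agent.DerCat.AdjHomotopy
import Mathlib.CategoryTheory.Localization.Adjunction
import Mathlib.Algebra.Homology.DerivedCategory.ExactFunctor
import Mathlib.Algebra.Homology.DerivedCategory.Linear

/-!
# Flat base change on derived categories and torsion cohomology
-/

set_option autoImplicit false
set_option backward.isDefEq.respectTransparency false
set_option backward.defeqAttrib.useBackward true

noncomputable section

universe u

attribute [local instance] HasDerivedCategory.standard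

open CategoryTheory Limits

namespace Groth.Agent.FlatTorsHom

variable {A B : Type u} [CommRing A] [CommRing B]

/-- A flat ring map. -/
structure FlatMap (A B : Type u) [CommRing A] [CommRing B] where
  toHom : A →+* B
  flat : toHom.Flat

variable (φ : FlatMap A B)

/-- Extension of scalars. -/
abbrev E : ModuleCat.{u} A ⥤ ModuleCat.{u} B := ModuleCat.extendScalars.{u, u, u} φ.toHom

/-- Restriction of scalars. -/
abbrev R : ModuleCat.{u} B ⥤ ModuleCat.{u} A := ModuleCat.restrictScalars.{u} φ.toHom

/-- The adjunction. -/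
abbrev adj : E φ ⊣ R φ := ModuleCat.extendRestrictScalarsAdj.{u, u, u} φ.toHom

instance preservesFiniteLimits_E : PreservesFiniteLimits (E φ) := by
  haveI := RGammaLib.preservesHomology φ.toHom φ.flat
  exact Functor.preservesFiniteLimits_of_preservesHomology _

instance preservesFiniteColimits_E : PreservesFiniteColimits (E φ) := by
  haveI := RGammaLib.preservesHomology φ.toHom φ.flat
  exact Functor.preservesFiniteColimits_of_preservesHomology _

/-- `B ⊗ -` as an endofunctor of `A`-modules. -/
abbrev G₀ : ModuleCat.{u} A ⥤ ModuleCat.{u} A := E φ ⋙ R φ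

instance linear_G₀ : (G₀ φ).Linear A where
  map_smul {X Y} f r := by
    letI := φ.toHom.toAlgebra
    refine ModuleCat.hom_ext (LinearMap.ext fun x => ?_)
    show ((r • f).hom.baseChange B) x = φ.toHom r • (f.hom.baseChange B) x
    rw [ModuleCat.hom_smul, LinearMap.baseChange_smul, LinearMap.smul_apply]
    exact (algebraMap_smul B r ((f.hom.baseChange B) x)).symm

/-- `L⊗` on derived categories. -/
abbrev Le : Dual.D A ⥤ Dual.D B := (E φ).mapDerivedCategory

/-- Restriction on derived categories. -/
abbrev Re : Dual.D B ⥤ Dual.D A := (R φ).mapDerivedCategory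

/-- The adjunction on complexes. -/
def adjCx : (E φ).mapHomologicalComplex (ComplexShape.up ℤ) ⊣ (R φ).mapHomologicalComplex (ComplexShape.up ℤ) where
  unit :=
    { app := fun K => DerCat.unitCx (adj φ) _ K
      naturality := fun _ _ f => by ext i : 1; exact (adj φ).unit.naturality (f.f i) }
  counit :=
    { app := fun K => DerCat.counitCx (adj φ) _ K
      naturality := fun _ _ f => by ext i : 1; exact (adj φ).counit.naturality (f.f i) }
  left_triangle_components K := by ext i : 1; exact (adj φ).left_triangle_components _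
  right_triangle_components K := by ext i : 1; exact (adj φ).right_triangle_components _

/-- The adjunction on derived categories. -/
def adjD : Le φ ⊣ Re φ :=
  letI : CatCommSq ((E φ).mapHomologicalComplex (ComplexShape.up ℤ)) DerivedCategory.Q DerivedCategory.Q (Le φ) :=
    ⟨(E φ).mapDerivedCategoryFactors.symm⟩
  letI : CatCommSq ((R φ).mapHomologicalComplex (ComplexShape.up ℤ)) DerivedCategory.Q DerivedCategory.Q (Re φ) :=
    ⟨(R φ).mapDerivedCategoryFactors.symm⟩
  (adjCx φ).localization DerivedCategory.Q (HomologicalComplex.quasiIso (ModuleCat.{u} A) (ComplexShape.up ℤ))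
    DerivedCategory.Q (HomologicalComplex.quasiIso (ModuleCat.{u} B) (ComplexShape.up ℤ)) _ _

theorem linear_mapHC (F : ModuleCat.{u} A ⥤ ModuleCat.{u} A) [F.Additive] [F.Linear A] :
    (F.mapHomologicalComplex (ComplexShape.up ℤ)).Linear A where
  map_smul f r := HomologicalComplex.hom_ext _ _ fun i => F.map_smul r (f.f i)

/-- `Le ⋙ Re` on complexes. -/
def compFactors : DerivedCategory.Q ⋙ Le φ ⋙ Re φ ≅
    (G₀ φ).mapHomologicalComplex (ComplexShape.up ℤ) ⋙ DerivedCategory.Q :=
  NatIso.ofComponents (fun K => (Re φ).mapIso ((E φ).mapDerivedCategoryFactors.app K) ≪≫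
    (R φ).mapDerivedCategoryFactors.app (((E φ).mapHomologicalComplex (ComplexShape.up ℤ)).obj K)) fun {K L} f => by
      have h1 := (E φ).mapDerivedCategoryFactors_hom_naturality f
      have h2 := (R φ).mapDerivedCategoryFactors_hom_naturality (((E φ).mapHomologicalComplex (ComplexShape.up ℤ)).map f)
      dsimp
      rw [← Functor.map_comp_assoc, h1, Functor.map_comp, Category.assoc, h2, Category.assoc]
      rfl

instance linear_comp : Functor.Linear A (Le φ ⋙ Re φ) := by
  letI : Localization.Lifting DerivedCategory.Q (HomologicalComplex.quasiIso (ModuleCat.{u} A) (ComplexShape.up ℤ))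
      ((G₀ φ).mapHomologicalComplex _ ⋙ DerivedCategory.Q) (Le φ ⋙ Re φ) := ⟨compFactors φ⟩
  haveI : ((G₀ φ).mapHomologicalComplex (ComplexShape.up ℤ)).Linear A := linear_mapHC (G₀ φ)
  exact (Localization.functor_linear_iff DerivedCategory.Q (HomologicalComplex.quasiIso (ModuleCat.{u} A)
    (ComplexShape.up ℤ)) A ((G₀ φ).mapHomologicalComplex (ComplexShape.up ℤ) ⋙ DerivedCategory.Q) (Le φ ⋙ Re φ)).1 inferInstance

theorem unit_app_Q (C : DRing.Cx A) : ∃ (a : DerivedCategory.Q.obj C ⟶ DerivedCategory.Q.obj (((G₀ φ).mapHomologicalComplex (ComplexShape.up ℤ)).obj C)),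
    a = DerivedCategory.Q.map ((adjCx φ).unit.app C) ∧ (adjD φ).unit.app (DerivedCategory.Q.obj C) = a ≫ (compFactors φ).inv.app C := by
  refine ⟨_, rfl, ?_⟩
  unfold adjD
  rw [Adjunction.localization_unit_app]
  simp [compFactors, CatCommSq.iso]

/-- The unit is invertible when the cohomology is `I`-power torsion. -/
theorem isIso_unit_of_torsion (I : Ideal A)
    (hq : Function.Bijective (Ideal.quotientMap (I.map φ.toHom) φ.toHom Ideal.le_comap_map))
    (X : Dual.D A) (hX : ∀ j, LocCoh.IsPowerTorsion I (Dual.HD A X j)) : IsIso ((adjD φ).unit.app X) := by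
  letI := φ.toHom.toAlgebra
  haveI : Module.Flat A B := φ.flat
  let C := DerivedCategory.Q.objPreimage X
  let e : DerivedCategory.Q.obj C ≅ X := DerivedCategory.Q.objObjPreimageIso X
  refine (NatTrans.isIso_app_iff_of_iso _ e).1 ?_
  obtain ⟨a, rfl, ha⟩ := unit_app_Q φ C
  rw [ha]
  haveI : QuasiIso ((adjCx φ).unit.app C) := ⟨fun j => by
    rw [quasiIsoAt_iff_isIso_homologyMap]
    show IsIso (ShortComplex.homologyMap ((C.sc j).mapNatTrans (adj φ).unit))
    haveI : ((G₀ φ)).PreservesHomology := inferInstance
    have hτ : IsIso ((adj φ).unit.app (C.sc j).homology) := by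
      rw [ConcreteCategory.isIso_iff_bijective]
      have hT : ∀ m : (C.sc j).homology, ∃ n : ℕ, ∀ a ∈ I ^ n, a • m = 0 := by
        intro m
        let f := Iso.toLinearEquiv ((DerivedCategory.homologyFunctorFactors (ModuleCat.{u} A) j).app C)
        obtain ⟨n, hn⟩ := RGammaLib.isPowerTorsion_iso I e.symm hX j (f.symm m)
        refine ⟨n, fun a ha => f.symm.injective ?_⟩
        rw [map_smul, map_zero]
        exact hn a ha
      exact FlatGlue.bijective_mk hq _ hT
    rw [NatTrans.app_homology] at hτ
    haveI := hτ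
    have h1 : IsIso (ShortComplex.homologyMap ((C.sc j).mapNatTrans (adj φ).unit) ≫
        ((C.sc j).mapHomologyIso (G₀ φ)).hom) :=
      IsIso.of_isIso_comp_left ((C.sc j).mapHomologyIso (𝟭 _)).inv _
    exact IsIso.of_isIso_comp_right _ ((C.sc j).mapHomologyIso (G₀ φ)).hom⟩
  infer_instance

end Groth.Agent.FlatTorsHom
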